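import Cfsg.Agent.Lib.H6.TiP.Tab

set_option autoImplicit false
set_option maxRecDepth 1000000

/-! # checks, part 0 (generated) -/

namespace Cfsg.Agent.Lib.H6.TiP

open Cfsg.Agent.Lib.H17.CosetCert Cfsg.Agent.Lib.H6.PermTab Cfsg.Agent.Lib.H6.PermFast

set_option maxHeartbeats 0 in
theorem chk0 : checkAll T eqPairs 14 4 1755 0 1024 = true := by
  decide +kernel

set_option maxHeartbeats 0 in
theorem chk1 : checkAll T eqPairs 14 4 1755 1024 731 = true := by
  decide +kernel

end Cfsg.Agent.Lib.H6.TiP
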