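import Cfsg.Agent.Lib.H6.TiP.Chk0

set_option autoImplicit false
set_option maxRecDepth 1000000

/-! # the tables are good (generated) -/

namespace Cfsg.Agent.Lib.H6.TiP

open Cfsg.Agent.Lib.H17.CosetCert Cfsg.Agent.Lib.H6.PermTab Cfsg.Agent.Lib.H6.PermFast

/-- the number of points -/
abbrev n : ℕ := 1755

set_option maxHeartbeats 0 in
theorem all_chunks : ∀ i < 1755, (∀ p ∈ eqPairs, applyW T p.1 i = applyW T p.2 i) ∧
    (∀ x < 14, T x i < 1755) ∧ (i ≠ 0 → ∃ x < 4, T x i < i) := by
  intro i hi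
  have hk : i / 1024 < 2 := by omega
  have h1 : i / 1024 * 1024 ≤ i := Nat.div_mul_le_self i 1024
  have h2 : i < i / 1024 * 1024 + 1024 := by have := Nat.lt_div_mul_add (a := i) (b := 1024) (by norm_num); omega
  generalize i / 1024 = k at hk h1 h2
  interval_cases k
  · have h := checkAll_sound T eqPairs 14 4 1755 _ _ chk0
    exact ⟨fun p hp => h.1 p hp i (by omega) (by omega), h.2.1 i (by omega) (by omega), h.2.2 i (by omega) (by omega)⟩
  · have h := checkAll_sound T eqPairs 14 4 1755 _ _ chk1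
    exact ⟨fun p hp => h.1 p hp i (by omega) (by omega), h.2.1 i (by omega) (by omega), h.2.2 i (by omega) (by omega)⟩

end Cfsg.Agent.Lib.H6.TiP
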